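import Cfsg.Agent.ThompsonRep.Flag.Acts

/-!
The images of the vectors (part 0).
-/

set_option autoImplicit false
set_option maxRecDepth 100000

namespace CfsgLib.ThRep.Flag

theorem acts0_ok : checkActs acts0 = true := by decide +kernel

theorem gens_link : ∀ L ∈ gens, rowsLink L = true := by decide +kernel

theorem levs_neq : ∀ e ∈ levs, neqR (vecAt e.1) (vecAt e.2.1) = true ∧ neqR (vecAt e.1) (vecAt e.2.2.1) = true ∧
    neqR (vecAt e.2.1) (vecAt e.2.2.1) = true := by decide +kernel

end CfsgLib.ThRep.Flag
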