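import Cfsg.Agent.ThompsonRep.Flag.Acts

/-!
The images of the vectors (part 3).
-/

set_option autoImplicit false
set_option maxRecDepth 100000

namespace CfsgLib.ThRep.Flag

theorem acts3_ok : checkActs acts3 = true := by decide +kernel

end CfsgLib.ThRep.Flag
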