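import Cfsg.Agent.ThompsonRep.Flag.Basic
import Cfsg.Agent.ThompsonRep.Flag.Data0
import Cfsg.Agent.ThompsonRep.Flag.Data1
import Cfsg.Agent.ThompsonRep.Flag.Data2

/-!
The witnesses are words (part 0, second half).
-/

set_option autoImplicit false
set_option maxRecDepth 100000

namespace CfsgLib.ThRep.Flag

theorem def4_ok : checkDef [rowsC, rowsD, rowsSInv, def3] [3, 2, 1, 0] def4 = true := by decide +kernel

theorem def5_ok : checkDef [rowsC, rowsD, rowsE, rowsS, rowsSInv, rowsT, rowsTInv, rowsU, rowsUInv, def4] [9, 3, 5, 7, 5, 4, 5, 1, 0, 3, 1, 8, 6, 2] def5 = true := by decide +kernel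

theorem def6_ok : checkDef [rowsC, rowsD] [1, 0, 1] def6 = true := by decide +kernel

theorem def7_ok : checkDef [rowsC, rowsD, rowsS, rowsSInv, rowsU, rowsUInv] [3, 5, 1, 0, 1, 4, 2] def7 = true := by decide +kernel

end CfsgLib.ThRep.Flag
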