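import Cfsg.Agent.ThompsonRep.Flag.Basic
import Cfsg.Agent.ThompsonRep.Flag.Def0b
import Cfsg.Agent.ThompsonRep.Flag.Data0
import Cfsg.Agent.ThompsonRep.Flag.Data1
import Cfsg.Agent.ThompsonRep.Flag.Data2

/-!
The witnesses are words (part 0).
-/

set_option autoImplicit false
set_option maxRecDepth 100000

namespace CfsgLib.ThRep.Flag

theorem def0_ok : checkDef [rowsB, rowsD, rowsE] [2, 1, 0] def0 = true := by decide +kernel

theorem def1_ok : checkDef [rowsA, rowsB] [1, 0, 1, 0] def1 = true := by decide +kernel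

theorem def2_ok : checkDef [rowsC, rowsD, rowsE, rowsS, rowsSInv, rowsT, rowsTInv, rowsUInv] [5, 0, 2, 7, 4, 0, 7, 1, 6, 3] def2 = true := by decide +kernel

theorem def3_ok : checkDef [rowsC, rowsS, def2] [2, 1, 0] def3 = true := by decide +kernel

end CfsgLib.ThRep.Flag
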