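import Cfsg.Agent.ThompsonRep.Flag.Basic
import Cfsg.Agent.ThompsonRep.Flag.Data0
import Cfsg.Agent.ThompsonRep.Flag.Data1
import Cfsg.Agent.ThompsonRep.Flag.Data2

/-!
The witnesses are words (part 1, second half).
-/

set_option autoImplicit false
set_option maxRecDepth 100000

namespace CfsgLib.ThRep.Flag

theorem def11_ok : checkDef [rowsC, rowsD, rowsU, rowsUInv] [3, 1, 0, 1, 2] def11 = true := by decide +kernel

theorem def12_ok : checkDef [rowsC, rowsD, rowsE, rowsT, def1, def6, def10, def11] [3, 4, 6, 0, 5, 2, 1, 0, 1, 2, 7, 4, 4] def12 = true := by decide +kernel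

end CfsgLib.ThRep.Flag
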