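import Cfsg.Agent.ThompsonRep.Flag.Basic
import Cfsg.Agent.ThompsonRep.Flag.Def1b
import Cfsg.Agent.ThompsonRep.Flag.Data0
import Cfsg.Agent.ThompsonRep.Flag.Data1
import Cfsg.Agent.ThompsonRep.Flag.Data2

/-!
The witnesses are words (part 1).
-/

set_option autoImplicit false
set_option maxRecDepth 100000

namespace CfsgLib.ThRep.Flag

theorem def8_ok : checkDef [rowsC, rowsD, rowsE, rowsS, rowsSInv] [1, 4, 2, 1, 0, 1, 2, 3, 1] def8 = true := by decide +kernel

theorem def9_ok : checkDef [rowsC, rowsD, rowsE, rowsS, rowsSInv] [2, 4, 2, 1, 0, 1, 2, 3, 2] def9 = true := by decide +kernel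

theorem def10_ok : checkDef [rowsC, rowsD, rowsE, rowsTInv, rowsU, rowsUInv] [1, 0, 2, 3, 5, 1, 2, 3, 1, 2, 4] def10 = true := by decide +kernel

end CfsgLib.ThRep.Flag
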