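import Cfsg.Agent.ThompsonRep.Flag.Basic
import Cfsg.Agent.ThompsonRep.Flag.Data0
import Cfsg.Agent.ThompsonRep.Flag.Data1
import Cfsg.Agent.ThompsonRep.Flag.Data2

/-!
The witnesses are words (part 2, second half).
-/

set_option autoImplicit false
set_option maxRecDepth 100000

namespace CfsgLib.ThRep.Flag

theorem def18_ok : checkDef [rowsA, def13, def14] [1, 0, 2] def18 = true := by decide +kernel

theorem def19_ok : checkDef [rowsA, rowsE, def18] [2, 0, 1] def19 = true := by decide +kernel

theorem def20_ok : checkDef [rowsA, def18, def19] [0, 1, 0, 1, 2, 2, 2, 2, 2] def20 = true := by decide +kernel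

theorem def21_ok : checkDef [rowsA, def17, def20] [2, 0, 1] def21 = true := by decide +kernel

end CfsgLib.ThRep.Flag
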