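import Cfsg.Agent.ThompsonRep.Flag.Basic
import Cfsg.Agent.ThompsonRep.Flag.Def2b
import Cfsg.Agent.ThompsonRep.Flag.Data0
import Cfsg.Agent.ThompsonRep.Flag.Data1
import Cfsg.Agent.ThompsonRep.Flag.Data2

/-!
The witnesses are words (part 2).
-/

set_option autoImplicit false
set_option maxRecDepth 100000

namespace CfsgLib.ThRep.Flag

theorem def13_ok : checkDef [rowsB, rowsC, rowsD, rowsTInv, rowsUInv] [0, 2, 1, 0, 4, 3, 2, 4, 0] def13 = true := by decide +kernel

theorem def14_ok : checkDef [rowsB, rowsC, rowsD, rowsT, rowsU] [0, 4, 2, 3, 4, 0, 1, 2, 0] def14 = true := by decide +kernel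

theorem def15_ok : checkDef [rowsA, def13, def14] [1, 0, 2] def15 = true := by decide +kernel

theorem def16_ok : checkDef [rowsA, rowsE, def15] [1, 0, 2] def16 = true := by decide +kernel

theorem def17_ok : checkDef [rowsA, def15, def16] [2, 2, 2, 2, 2, 1, 0, 1, 0] def17 = true := by decide +kernel

end CfsgLib.ThRep.Flag
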