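import Cfsg.Agent.ThompsonRep.Flag.Basic
import Cfsg.Agent.ThompsonRep.Flag.Data0
import Cfsg.Agent.ThompsonRep.Flag.Data1
import Cfsg.Agent.ThompsonRep.Flag.Data2

/-!
The witnesses are words (part 3, second half).
-/

set_option autoImplicit false
set_option maxRecDepth 100000

namespace CfsgLib.ThRep.Flag

theorem def26_ok : checkDef [rowsA, def24, def25] [1, 0, 2] def26 = true := by decide +kernel

theorem def27_ok : checkDef [rowsC, def23, def26] [0, 1, 2] def27 = true := by decide +kernel

theorem def28_ok : checkDef [rowsA, def26, def27] [2, 2, 2, 2, 2, 1, 0, 1, 0] def28 = true := by decide +kernel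

theorem def29_ok : checkDef [rowsA, def24, def25] [1, 0, 2] def29 = true := by decide +kernel

end CfsgLib.ThRep.Flag
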