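import Cfsg.Agent.ThompsonRep.Flag.Basic
import Cfsg.Agent.ThompsonRep.Flag.Def3b
import Cfsg.Agent.ThompsonRep.Flag.Data0
import Cfsg.Agent.ThompsonRep.Flag.Data1
import Cfsg.Agent.ThompsonRep.Flag.Data2

/-!
The witnesses are words (part 3).
-/

set_option autoImplicit false
set_option maxRecDepth 100000

namespace CfsgLib.ThRep.Flag

theorem def22_ok : checkDef [rowsD, def1, def17, def20, def21] [1, 2, 4, 0, 4, 0, 3, 1, 1] def22 = true := by decide +kernel

theorem def23_ok : checkDef [rowsD, rowsE, rowsS, rowsTInv, rowsU] [4, 3, 2, 0, 2, 1, 0, 4, 3] def23 = true := by decide +kernel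

theorem def24_ok : checkDef [rowsB, rowsC, rowsE, rowsSInv, rowsUInv] [1, 3, 2, 3, 4, 0, 1, 4] def24 = true := by decide +kernel

theorem def25_ok : checkDef [rowsB, rowsC, rowsE, rowsS, rowsU] [4, 1, 0, 4, 3, 2, 3, 1] def25 = true := by decide +kernel

end CfsgLib.ThRep.Flag
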