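import Cfsg.Agent.ThompsonRep.Flag.Basic
import Cfsg.Agent.ThompsonRep.Flag.Data0
import Cfsg.Agent.ThompsonRep.Flag.Data1
import Cfsg.Agent.ThompsonRep.Flag.Data2

/-!
The witnesses are words (part 4, second half).
-/

set_option autoImplicit false
set_option maxRecDepth 100000

namespace CfsgLib.ThRep.Flag

theorem def33_ok : checkDef [rowsA, def28, def32] [2, 0, 1] def33 = true := by decide +kernel

theorem def34_ok : checkDef [rowsC, rowsD, rowsS, rowsT, rowsU, rowsUInv] [4, 2, 1, 0, 5, 2, 0, 2, 0, 3, 2] def34 = true := by decide +kernel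

theorem def35_ok : checkDef [rowsC, rowsD, rowsS, rowsTInv, rowsUInv, def34] [5, 0, 2, 4, 4, 2, 1, 3] def35 = true := by decide +kernel

end CfsgLib.ThRep.Flag
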