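import Cfsg.Agent.ThompsonRep.Flag.Basic
import Cfsg.Agent.ThompsonRep.Flag.Def4b
import Cfsg.Agent.ThompsonRep.Flag.Data0
import Cfsg.Agent.ThompsonRep.Flag.Data1
import Cfsg.Agent.ThompsonRep.Flag.Data2

/-!
The witnesses are words (part 4).
-/

set_option autoImplicit false
set_option maxRecDepth 100000

namespace CfsgLib.ThRep.Flag

theorem def30_ok : checkDef [rowsD, rowsE, rowsSInv, rowsT, rowsUInv] [3, 4, 0, 1, 2, 0, 2, 3, 4] def30 = true := by decide +kernel

theorem def31_ok : checkDef [rowsC, def29, def30] [1, 2, 0] def31 = true := by decide +kernel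

theorem def32_ok : checkDef [rowsA, def29, def31] [0, 1, 0, 1, 2, 2, 2, 2, 2] def32 = true := by decide +kernel

end CfsgLib.ThRep.Flag
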