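import Cfsg.Agent.ThompsonRep.Flag.Basic
import Cfsg.Agent.ThompsonRep.Flag.Data0
import Cfsg.Agent.ThompsonRep.Flag.Data1
import Cfsg.Agent.ThompsonRep.Flag.Data2

/-!
The witnesses are words (part 5, second half).
-/

set_option autoImplicit false
set_option maxRecDepth 100000

namespace CfsgLib.ThRep.Flag

theorem def38_ok : checkDef [def12] [0, 0] def38 = true := by decide +kernel

theorem def39_ok : checkDef [rowsTInv, def22] [0, 1] def39 = true := by decide +kernel

end CfsgLib.ThRep.Flag
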