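import Cfsg.Agent.ThompsonRep.Flag.Basic
import Cfsg.Agent.ThompsonRep.Flag.Def5b
import Cfsg.Agent.ThompsonRep.Flag.Data0
import Cfsg.Agent.ThompsonRep.Flag.Data1
import Cfsg.Agent.ThompsonRep.Flag.Data2

/-!
The witnesses are words (part 5).
-/

set_option autoImplicit false
set_option maxRecDepth 100000

namespace CfsgLib.ThRep.Flag

theorem def36_ok : checkDef [rowsA, rowsC, rowsD, rowsSInv, rowsUInv, def1, def5, def6, def7, def8, def9, def10, def11, def28, def32, def33, def35] [5, 6, 0, 1, 7, 12, 8, 9, 10, 5, 5, 5, 11, 1, 5, 5, 5, 13, 15, 4, 2, 3, 4, 15, 16, 2, 14, 5, 5] def36 = true := by decide +kernel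

theorem def37_ok : checkDef [rowsC, def1, def5, def6, def7, def8, def9, def11, def22, def36] [9, 1, 2, 0, 3, 7, 4, 5, 6, 1, 1, 8] def37 = true := by decide +kernel

end CfsgLib.ThRep.Flag
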