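import Cfsg.Agent.ThompsonRep.Flag.Basic
import Cfsg.Agent.ThompsonRep.Flag.Data0
import Cfsg.Agent.ThompsonRep.Flag.Data1
import Cfsg.Agent.ThompsonRep.Flag.Data2
import Cfsg.Agent.ThompsonRep.Flag.DataFlag

/-!
The generators are unitriangular in the flag.
-/

set_option autoImplicit false
set_option maxRecDepth 100000

namespace CfsgLib.ThRep.Flag

theorem flag_inv : checkDef [flagQ, flagQi] [0, 1] oneRows = true := by decide +kernel

theorem flag_inv' : checkDef [flagQ, flagQi] [1, 0] oneRows = true := by decide +kernel

theorem conjR0_ok : checkDef [def38, flagQi] [0, 1] conjR0 = true := by decide +kernel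

theorem conjT0_ok : checkDef [flagQ, conjR0] [0, 1] conjT0 = true := by decide +kernel

theorem conjT0_tri : triOK conjT0 = true := by decide +kernel

theorem conjR1_ok : checkDef [def39, flagQi] [0, 1] conjR1 = true := by decide +kernel

theorem conjT1_ok : checkDef [flagQ, conjR1] [0, 1] conjT1 = true := by decide +kernel

theorem conjT1_tri : triOK conjT1 = true := by decide +kernel

theorem conjR2_ok : checkDef [def37, flagQi] [0, 1] conjR2 = true := by decide +kernel

theorem conjT2_ok : checkDef [flagQ, conjR2] [0, 1] conjT2 = true := by decide +kernel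

theorem conjT2_tri : triOK conjT2 = true := by decide +kernel

theorem oneRows_ok : Nat.beq (expand 248 oneRows) (CfsgLib.LyG2.oneX 248) = true := by decide +kernel

end CfsgLib.ThRep.Flag
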