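import Cfsg.Agent.ThompsonRep.LowerPoints
import Cfsg.Agent.ThompsonRep.Flag.Tri
import Cfsg.Agent.ThompsonRep.Flag.Def0
import Cfsg.Agent.ThompsonRep.Flag.Def1
import Cfsg.Agent.ThompsonRep.Flag.Def2
import Cfsg.Agent.ThompsonRep.Flag.Def3
import Cfsg.Agent.ThompsonRep.Flag.Def4
import Cfsg.Agent.ThompsonRep.Flag.Def5
import Cfsg.Agent.ThompsonRep.Flag.ActsCheck0
import Cfsg.Agent.ThompsonRep.Flag.ActsCheck1
import Cfsg.Agent.ThompsonRep.Flag.ActsCheck2
import Cfsg.Agent.ThompsonRep.Flag.ActsCheck3
import Cfsg.Agent.ThompsonRep.Flag.ActsCheck4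
import Cfsg.Agent.ThompsonRep.Flag.ActsCheck5
import Cfsg.Agent.ThompsonRep.Flag.ActsCheck6

/-!
The image of the representation of degree 248 has order divisible by `3 ^ 10`.
-/

set_option autoImplicit false
set_option maxRecDepth 100000

namespace CfsgLib.ThRep.Flag

open Matrix CfsgLib.LyG2 CfsgLib.CosetEnum

attribute [local irreducible] matR tab mat genGL rep

theorem def0_inR : InR def0 := inR_of_def def0_ok (by
  simp only [List.forall_mem_cons]
  exact ⟨inR_letter (i := 1) (by norm_num), inR_letter (i := 3) (by norm_num), inR_letter (i := 4) (by norm_num), fun _ h0 => absurd h0 List.not_mem_nil⟩)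

theorem def1_inR : InR def1 := inR_of_def def1_ok (by
  simp only [List.forall_mem_cons]
  exact ⟨inR_letter (i := 0) (by norm_num), inR_letter (i := 1) (by norm_num), fun _ h0 => absurd h0 List.not_mem_nil⟩)

theorem def2_inR : InR def2 := inR_of_def def2_ok (by
  simp only [List.forall_mem_cons]
  exact ⟨inR_letter (i := 2) (by norm_num), inR_letter (i := 3) (by norm_num), inR_letter (i := 4) (by norm_num), inR_letter (i := 5) (by norm_num), inR_letter (i := 6) (by norm_num), inR_letter (i := 7) (by norm_num), inR_letter (i := 8) (by norm_num), inR_letter (i := 10) (by norm_num), fun _ h0 => absurd h0 List.not_mem_nil⟩)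

theorem def3_inR : InR def3 := inR_of_def def3_ok (by
  simp only [List.forall_mem_cons]
  exact ⟨inR_letter (i := 2) (by norm_num), inR_letter (i := 5) (by norm_num), def2_inR, fun _ h0 => absurd h0 List.not_mem_nil⟩)

theorem def4_inR : InR def4 := inR_of_def def4_ok (by
  simp only [List.forall_mem_cons]
  exact ⟨inR_letter (i := 2) (by norm_num), inR_letter (i := 3) (by norm_num), inR_letter (i := 6) (by norm_num), def3_inR, fun _ h0 => absurd h0 List.not_mem_nil⟩)

theorem def5_inR : InR def5 := inR_of_def def5_ok (by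
  simp only [List.forall_mem_cons]
  exact ⟨inR_letter (i := 2) (by norm_num), inR_letter (i := 3) (by norm_num), inR_letter (i := 4) (by norm_num), inR_letter (i := 5) (by norm_num), inR_letter (i := 6) (by norm_num), inR_letter (i := 7) (by norm_num), inR_letter (i := 8) (by norm_num), inR_letter (i := 9) (by norm_num), inR_letter (i := 10) (by norm_num), def4_inR, fun _ h0 => absurd h0 List.not_mem_nil⟩)

theorem def6_inR : InR def6 := inR_of_def def6_ok (by
  simp only [List.forall_mem_cons]
  exact ⟨inR_letter (i := 2) (by norm_num), inR_letter (i := 3) (by norm_num), fun _ h0 => absurd h0 List.not_mem_nil⟩)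

theorem def7_inR : InR def7 := inR_of_def def7_ok (by
  simp only [List.forall_mem_cons]
  exact ⟨inR_letter (i := 2) (by norm_num), inR_letter (i := 3) (by norm_num), inR_letter (i := 5) (by norm_num), inR_letter (i := 6) (by norm_num), inR_letter (i := 9) (by norm_num), inR_letter (i := 10) (by norm_num), fun _ h0 => absurd h0 List.not_mem_nil⟩)

theorem def8_inR : InR def8 := inR_of_def def8_ok (by
  simp only [List.forall_mem_cons]
  exact ⟨inR_letter (i := 2) (by norm_num), inR_letter (i := 3) (by norm_num), inR_letter (i := 4) (by norm_num), inR_letter (i := 5) (by norm_num), inR_letter (i := 6) (by norm_num), fun _ h0 => absurd h0 List.not_mem_nil⟩)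

theorem def9_inR : InR def9 := inR_of_def def9_ok (by
  simp only [List.forall_mem_cons]
  exact ⟨inR_letter (i := 2) (by norm_num), inR_letter (i := 3) (by norm_num), inR_letter (i := 4) (by norm_num), inR_letter (i := 5) (by norm_num), inR_letter (i := 6) (by norm_num), fun _ h0 => absurd h0 List.not_mem_nil⟩)

theorem def10_inR : InR def10 := inR_of_def def10_ok (by
  simp only [List.forall_mem_cons]
  exact ⟨inR_letter (i := 2) (by norm_num), inR_letter (i := 3) (by norm_num), inR_letter (i := 4) (by norm_num), inR_letter (i := 8) (by norm_num), inR_letter (i := 9) (by norm_num), inR_letter (i := 10) (by norm_num), fun _ h0 => absurd h0 List.not_mem_nil⟩)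

theorem def11_inR : InR def11 := inR_of_def def11_ok (by
  simp only [List.forall_mem_cons]
  exact ⟨inR_letter (i := 2) (by norm_num), inR_letter (i := 3) (by norm_num), inR_letter (i := 9) (by norm_num), inR_letter (i := 10) (by norm_num), fun _ h0 => absurd h0 List.not_mem_nil⟩)

theorem def12_inR : InR def12 := inR_of_def def12_ok (by
  simp only [List.forall_mem_cons]
  exact ⟨inR_letter (i := 2) (by norm_num), inR_letter (i := 3) (by norm_num), inR_letter (i := 4) (by norm_num), inR_letter (i := 7) (by norm_num), def1_inR, def6_inR, def10_inR, def11_inR, fun _ h0 => absurd h0 List.not_mem_nil⟩)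

theorem def13_inR : InR def13 := inR_of_def def13_ok (by
  simp only [List.forall_mem_cons]
  exact ⟨inR_letter (i := 1) (by norm_num), inR_letter (i := 2) (by norm_num), inR_letter (i := 3) (by norm_num), inR_letter (i := 8) (by norm_num), inR_letter (i := 10) (by norm_num), fun _ h0 => absurd h0 List.not_mem_nil⟩)

theorem def14_inR : InR def14 := inR_of_def def14_ok (by
  simp only [List.forall_mem_cons]
  exact ⟨inR_letter (i := 1) (by norm_num), inR_letter (i := 2) (by norm_num), inR_letter (i := 3) (by norm_num), inR_letter (i := 7) (by norm_num), inR_letter (i := 9) (by norm_num), fun _ h0 => absurd h0 List.not_mem_nil⟩)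

theorem def15_inR : InR def15 := inR_of_def def15_ok (by
  simp only [List.forall_mem_cons]
  exact ⟨inR_letter (i := 0) (by norm_num), def13_inR, def14_inR, fun _ h0 => absurd h0 List.not_mem_nil⟩)

theorem def16_inR : InR def16 := inR_of_def def16_ok (by
  simp only [List.forall_mem_cons]
  exact ⟨inR_letter (i := 0) (by norm_num), inR_letter (i := 4) (by norm_num), def15_inR, fun _ h0 => absurd h0 List.not_mem_nil⟩)

theorem def17_inR : InR def17 := inR_of_def def17_ok (by
  simp only [List.forall_mem_cons]
  exact ⟨inR_letter (i := 0) (by norm_num), def15_inR, def16_inR, fun _ h0 => absurd h0 List.not_mem_nil⟩)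

theorem def18_inR : InR def18 := inR_of_def def18_ok (by
  simp only [List.forall_mem_cons]
  exact ⟨inR_letter (i := 0) (by norm_num), def13_inR, def14_inR, fun _ h0 => absurd h0 List.not_mem_nil⟩)

theorem def19_inR : InR def19 := inR_of_def def19_ok (by
  simp only [List.forall_mem_cons]
  exact ⟨inR_letter (i := 0) (by norm_num), inR_letter (i := 4) (by norm_num), def18_inR, fun _ h0 => absurd h0 List.not_mem_nil⟩)

theorem def20_inR : InR def20 := inR_of_def def20_ok (by
  simp only [List.forall_mem_cons]
  exact ⟨inR_letter (i := 0) (by norm_num), def18_inR, def19_inR, fun _ h0 => absurd h0 List.not_mem_nil⟩)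

theorem def21_inR : InR def21 := inR_of_def def21_ok (by
  simp only [List.forall_mem_cons]
  exact ⟨inR_letter (i := 0) (by norm_num), def17_inR, def20_inR, fun _ h0 => absurd h0 List.not_mem_nil⟩)

theorem def22_inR : InR def22 := inR_of_def def22_ok (by
  simp only [List.forall_mem_cons]
  exact ⟨inR_letter (i := 3) (by norm_num), def1_inR, def17_inR, def20_inR, def21_inR, fun _ h0 => absurd h0 List.not_mem_nil⟩)

theorem def23_inR : InR def23 := inR_of_def def23_ok (by
  simp only [List.forall_mem_cons]
  exact ⟨inR_letter (i := 3) (by norm_num), inR_letter (i := 4) (by norm_num), inR_letter (i := 5) (by norm_num), inR_letter (i := 8) (by norm_num), inR_letter (i := 9) (by norm_num), fun _ h0 => absurd h0 List.not_mem_nil⟩)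

theorem def24_inR : InR def24 := inR_of_def def24_ok (by
  simp only [List.forall_mem_cons]
  exact ⟨inR_letter (i := 1) (by norm_num), inR_letter (i := 2) (by norm_num), inR_letter (i := 4) (by norm_num), inR_letter (i := 6) (by norm_num), inR_letter (i := 10) (by norm_num), fun _ h0 => absurd h0 List.not_mem_nil⟩)

theorem def25_inR : InR def25 := inR_of_def def25_ok (by
  simp only [List.forall_mem_cons]
  exact ⟨inR_letter (i := 1) (by norm_num), inR_letter (i := 2) (by norm_num), inR_letter (i := 4) (by norm_num), inR_letter (i := 5) (by norm_num), inR_letter (i := 9) (by norm_num), fun _ h0 => absurd h0 List.not_mem_nil⟩)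

theorem def26_inR : InR def26 := inR_of_def def26_ok (by
  simp only [List.forall_mem_cons]
  exact ⟨inR_letter (i := 0) (by norm_num), def24_inR, def25_inR, fun _ h0 => absurd h0 List.not_mem_nil⟩)

theorem def27_inR : InR def27 := inR_of_def def27_ok (by
  simp only [List.forall_mem_cons]
  exact ⟨inR_letter (i := 2) (by norm_num), def23_inR, def26_inR, fun _ h0 => absurd h0 List.not_mem_nil⟩)

theorem def28_inR : InR def28 := inR_of_def def28_ok (by
  simp only [List.forall_mem_cons]
  exact ⟨inR_letter (i := 0) (by norm_num), def26_inR, def27_inR, fun _ h0 => absurd h0 List.not_mem_nil⟩)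

theorem def29_inR : InR def29 := inR_of_def def29_ok (by
  simp only [List.forall_mem_cons]
  exact ⟨inR_letter (i := 0) (by norm_num), def24_inR, def25_inR, fun _ h0 => absurd h0 List.not_mem_nil⟩)

theorem def30_inR : InR def30 := inR_of_def def30_ok (by
  simp only [List.forall_mem_cons]
  exact ⟨inR_letter (i := 3) (by norm_num), inR_letter (i := 4) (by norm_num), inR_letter (i := 6) (by norm_num), inR_letter (i := 7) (by norm_num), inR_letter (i := 10) (by norm_num), fun _ h0 => absurd h0 List.not_mem_nil⟩)

theorem def31_inR : InR def31 := inR_of_def def31_ok (by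
  simp only [List.forall_mem_cons]
  exact ⟨inR_letter (i := 2) (by norm_num), def29_inR, def30_inR, fun _ h0 => absurd h0 List.not_mem_nil⟩)

theorem def32_inR : InR def32 := inR_of_def def32_ok (by
  simp only [List.forall_mem_cons]
  exact ⟨inR_letter (i := 0) (by norm_num), def29_inR, def31_inR, fun _ h0 => absurd h0 List.not_mem_nil⟩)

theorem def33_inR : InR def33 := inR_of_def def33_ok (by
  simp only [List.forall_mem_cons]
  exact ⟨inR_letter (i := 0) (by norm_num), def28_inR, def32_inR, fun _ h0 => absurd h0 List.not_mem_nil⟩)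

theorem def34_inR : InR def34 := inR_of_def def34_ok (by
  simp only [List.forall_mem_cons]
  exact ⟨inR_letter (i := 2) (by norm_num), inR_letter (i := 3) (by norm_num), inR_letter (i := 5) (by norm_num), inR_letter (i := 7) (by norm_num), inR_letter (i := 9) (by norm_num), inR_letter (i := 10) (by norm_num), fun _ h0 => absurd h0 List.not_mem_nil⟩)

theorem def35_inR : InR def35 := inR_of_def def35_ok (by
  simp only [List.forall_mem_cons]
  exact ⟨inR_letter (i := 2) (by norm_num), inR_letter (i := 3) (by norm_num), inR_letter (i := 5) (by norm_num), inR_letter (i := 8) (by norm_num), inR_letter (i := 10) (by norm_num), def34_inR, fun _ h0 => absurd h0 List.not_mem_nil⟩)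

theorem def36_inR : InR def36 := inR_of_def def36_ok (by
  simp only [List.forall_mem_cons]
  exact ⟨inR_letter (i := 0) (by norm_num), inR_letter (i := 2) (by norm_num), inR_letter (i := 3) (by norm_num), inR_letter (i := 6) (by norm_num), inR_letter (i := 10) (by norm_num), def1_inR, def5_inR, def6_inR, def7_inR, def8_inR, def9_inR, def10_inR, def11_inR, def28_inR, def32_inR, def33_inR, def35_inR, fun _ h0 => absurd h0 List.not_mem_nil⟩)

theorem def37_inR : InR def37 := inR_of_def def37_ok (by
  simp only [List.forall_mem_cons]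
  exact ⟨inR_letter (i := 2) (by norm_num), def1_inR, def5_inR, def6_inR, def7_inR, def8_inR, def9_inR, def11_inR, def22_inR, def36_inR, fun _ h0 => absurd h0 List.not_mem_nil⟩)

theorem def38_inR : InR def38 := inR_of_def def38_ok (by
  simp only [List.forall_mem_cons]
  exact ⟨def12_inR, fun _ h0 => absurd h0 List.not_mem_nil⟩)

theorem def39_inR : InR def39 := inR_of_def def39_ok (by
  simp only [List.forall_mem_cons]
  exact ⟨inR_letter (i := 8) (by norm_num), def22_inR, fun _ h0 => absurd h0 List.not_mem_nil⟩)

theorem gens_inR : ∀ L ∈ gens, InR L := by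
  simp only [gens, List.forall_mem_cons]
  exact ⟨def38_inR, def39_inR, def37_inR, fun _ h0 => absurd h0 List.not_mem_nil⟩

theorem matR_one : matR oneRows = 1 := by
  rw [matR]
  exact matR_eq_one rfl oneRows_ok oneOk_ok

theorem pair_eq {A B C : List ℕ} (h : checkDef [A, B] [0, 1] C = true) : matR A * matR B = matR C := by
  simpa using (checkDef_sound h).2

theorem flag_left : matR flagQ * matR flagQi = 1 := (pair_eq flag_inv).trans matR_one

theorem flag_right : matR flagQi * matR flagQ = 1 := by
  have := (checkDef_sound flag_inv').2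
  simpa [matR_one] using this

/-- Conjugation into the flag. -/
def conjQ (A : Matrix (Fin 248) (Fin 248) (ZMod 3)) : Matrix (Fin 248) (Fin 248) (ZMod 3) :=
  matR flagQ * A * matR flagQi

theorem conjQ_mul (A B : Matrix (Fin 248) (Fin 248) (ZMod 3)) : conjQ (A * B) = conjQ A * conjQ B := by
  simp only [conjQ, Matrix.mul_assoc]
  rw [← Matrix.mul_assoc (matR flagQi) (matR flagQ), flag_right, Matrix.one_mul]

theorem conjQ_one : conjQ 1 = 1 := by rw [conjQ, Matrix.mul_one, flag_left]

theorem conjQ_inj {A : Matrix (Fin 248) (Fin 248) (ZMod 3)} (h : conjQ A = 1) : A = 1 := by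
  have e := congrArg (fun Z => matR flagQi * Z * matR flagQ) h
  simp only [conjQ, Matrix.mul_one, flag_right] at e
  simpa only [← Matrix.mul_assoc, flag_right, Matrix.one_mul, Matrix.mul_assoc A, Matrix.mul_one] using e

theorem tri_gens : ∀ L ∈ gens, Tri (conjQ (matR L)) := by
  have h : ∀ {A R U : List ℕ}, checkDef [A, flagQi] [0, 1] R = true →
      checkDef [flagQ, R] [0, 1] U = true → triOK U = true → Tri (conjQ (matR A)) := by
    intro A R U h1 h2 h3
    rw [conjQ, Matrix.mul_assoc, pair_eq h1, pair_eq h2]
    exact tri_of_ok h3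
  simp only [gens, List.forall_mem_cons]
  exact ⟨h conjR0_ok conjT0_ok conjT0_tri, h conjR1_ok conjT1_ok conjT1_tri,
    h conjR2_ok conjT2_ok conjT2_tri, fun _ h0 => absurd h0 List.not_mem_nil⟩

/-- The subgroup generated by the three generators. -/
def pSub : Subgroup (GL (Fin 248) (ZMod 3)) :=
  Subgroup.closure {g | ∃ L ∈ gens, g.val = matR L}

theorem pSub_le : pSub ≤ rep.range := by
  rw [pSub, Subgroup.closure_le]
  rintro g ⟨L, hL, e⟩
  obtain ⟨a, ha, ea⟩ := gens_inR L hL
  rwa [show g = a from Units.ext (e.trans ea.symm)]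

theorem conjQ_pow (A : Matrix (Fin 248) (Fin 248) (ZMod 3)) : ∀ k : ℕ, conjQ (A ^ k) = conjQ A ^ k
  | 0 => by rw [pow_zero, pow_zero, conjQ_one]
  | k + 1 => by rw [pow_succ, pow_succ, conjQ_mul, conjQ_pow A k]

theorem pow_of_tri {g : GL (Fin 248) (ZMod 3)} (h : Tri (conjQ g.val)) : g ^ 3 ^ 6 = 1 := by
  haveI : Fact (0 < 248) := ⟨by norm_num⟩
  refine Units.ext ?_
  rw [Units.val_pow_eq_pow_val, Units.val_one]
  refine conjQ_inj ?_
  rw [conjQ_pow]
  exact tri_pow h 6 (by norm_num)

theorem tri_of_mem {g : GL (Fin 248) (ZMod 3)} (hg : g ∈ pSub) : Tri (conjQ g.val) := by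
  induction hg using Subgroup.closure_induction with
  | mem x hx => obtain ⟨L, hL, e⟩ := hx; rw [e]; exact tri_gens L hL
  | one => rw [Units.val_one, conjQ_one]; exact tri_one
  | mul x y _ _ hx hy => rw [Units.val_mul, conjQ_mul]; exact tri_mul hx hy
  | inv x _ hx =>
    have e : x⁻¹ = x ^ (3 ^ 6 - 1) := by
      refine inv_eq_of_mul_eq_one_right ?_
      rw [← pow_succ']
      exact pow_of_tri hx
    rw [e]
    have hp : ∀ k : ℕ, Tri (conjQ ((x ^ k : GL (Fin 248) (ZMod 3))).val) := fun k => by
      rw [Units.val_pow_eq_pow_val, conjQ_pow]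
      induction k with
      | zero => rw [pow_zero]; exact tri_one
      | succ k ih => rw [pow_succ]; exact tri_mul ih hx
    exact hp _

theorem isPGroup_pSub : IsPGroup 3 pSub :=
  fun g => ⟨6, Subtype.ext (pow_of_tri (tri_of_mem g.2))⟩

/-- The action on row vectors. -/
def act (v : Fin 248 → ZMod 3) (g : pSub) : Fin 248 → ZMod 3 :=
  Matrix.vecMul v (g : GL (Fin 248) (ZMod 3)).val

theorem act_one (v : Fin 248 → ZMod 3) : act v 1 = v := by
  rw [act, Subgroup.coe_one, Units.val_one, Matrix.vecMul_one]

theorem act_mul (v : Fin 248 → ZMod 3) (a b : pSub) : act v (a * b) = act (act v a) b := by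
  rw [act, act, act, Subgroup.coe_mul, Units.val_mul, Matrix.vecMul_vecMul]

theorem exists_word : ∀ w : List ℕ, (∀ c ∈ w, c < 3) →
    ∃ g : pSub, (g : GL (Fin 248) (ZMod 3)).val = (w.map fun c => matR (gens.getD c [])).prod
  | [], _ => ⟨1, by simp⟩
  | c :: w, h => by
    obtain ⟨g, hg⟩ := exists_word w fun x hx => h x (List.mem_cons_of_mem c hx)
    have hc : c < gens.length := by simpa [gens] using h c List.mem_cons_self
    have hL : gens.getD c [] ∈ gens := by
      rw [List.getD_eq_getElem _ _ hc]; exact List.getElem_mem hc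
    obtain ⟨a, -, ea⟩ := gens_inR _ hL
    exact ⟨⟨a, Subgroup.subset_closure ⟨_, hL, ea⟩⟩ * g, by
      rw [Subgroup.coe_mul, Units.val_mul, List.map_cons, List.prod_cons, hg, ea]⟩

/-- All checked images. -/
def allActs : List (ℕ × List ℕ × ℕ) := acts0 ++ acts1 ++ acts2 ++ acts3 ++ acts4 ++ acts5 ++ acts6

theorem allActs_ok : ∀ t ∈ allActs, (∀ c ∈ t.2.1, c < 3) ∧
    Matrix.vecMul (toV (vecAt t.1)) (t.2.1.map fun c => matR (gens.getD c [])).prod =
      toV (vecAt t.2.2) := by
  intro t ht
  simp only [allActs, List.mem_append] at ht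
  rcases ht with (((((h | h) | h) | h) | h) | h) | h
  · exact checkActs_sound acts0_ok gens_link t h
  · exact checkActs_sound acts1_ok gens_link t h
  · exact checkActs_sound acts2_ok gens_link t h
  · exact checkActs_sound acts3_ok gens_link t h
  · exact checkActs_sound acts4_ok gens_link t h
  · exact checkActs_sound acts5_ok gens_link t h
  · exact checkActs_sound acts6_ok gens_link t h

/-- The listed actions cover the levels, given the points of the earlier levels. -/
def covered : List ℕ → List (ℕ × ℕ × ℕ × List ℕ) → Bool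
  | _, [] => true
  | pre, (a, b, c, x) :: L => allActs.contains (a, x, b) && allActs.contains (b, x, c) &&
      (pre.all fun a0 => allActs.contains (a0, x, a0)) && covered (pre ++ [a]) L

theorem levs_covered : covered [] levs = true := by decide +kernel

theorem exists_levels : ∀ (L : List (ℕ × ℕ × ℕ × List ℕ)) (pre : List ℕ) (K : Subgroup pSub),
    covered pre L = true → (∀ e ∈ L, e ∈ levs) →
    (∀ g : pSub, (∀ a ∈ pre, act (toV (vecAt a)) g = toV (vecAt a)) → g ∈ K) →
    ∃ LL : List ((Fin 248 → ZMod 3) × List pSub),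
      LevelsOK act act_one act_mul K LL ∧ (LL.map fun e => e.2.length).prod = 3 ^ L.length
  | [], _, K, _, _, _ => ⟨[], trivial, rfl⟩
  | (a, b, c, x) :: L, pre, K, hc, hm, hK => by
    simp only [covered, Bool.and_eq_true, List.contains_iff_mem, List.all_eq_true] at hc
    obtain ⟨⟨⟨h1, h2⟩, hfix⟩, hrest⟩ := hc
    obtain ⟨hx, e1⟩ := allActs_ok _ h1
    obtain ⟨-, e2⟩ := allActs_ok _ h2
    obtain ⟨g, hg⟩ := exists_word x hx
    have a1 : act (toV (vecAt a)) g = toV (vecAt b) := by rw [act, hg]; exact e1
    have a2 : act (toV (vecAt a)) (g * g) = toV (vecAt c) := by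
      rw [act_mul, a1, act, hg]; exact e2
    obtain ⟨LL, hLL, hprod⟩ := exists_levels L (pre ++ [a]) (K ⊓ fixAt act act_one act_mul (toV (vecAt a)))
      hrest (fun e he => hm e (List.mem_cons_of_mem _ he)) (fun h hh =>
        ⟨hK h fun a0 ha0 => hh a0 (List.mem_append_left _ ha0),
          hh a (List.mem_append_right _ List.mem_cons_self)⟩)
    have hgK : g ∈ K := hK g fun a0 ha0 => by
      rw [act, hg]; exact (allActs_ok _ (hfix a0 ha0)).2
    refine ⟨(toV (vecAt a), [1, g, g * g]) :: LL, ⟨?_, ?_, hLL⟩, ?_⟩
    · simp only [List.forall_mem_cons]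
      exact ⟨one_mem K, hgK, mul_mem hgK hgK, fun _ h0 => absurd h0 List.not_mem_nil⟩
    · obtain ⟨n1, n2, n3⟩ := levs_neq (a, b, c, x) (hm _ List.mem_cons_self)
      simp only [List.map_cons, List.map_nil, act_one, a1, a2, List.nodup_cons, List.mem_cons,
        List.not_mem_nil, List.nodup_nil, or_false, and_true, not_or, not_false_eq_true]
      exact ⟨⟨neqR_sound n1, neqR_sound n2⟩, neqR_sound n3⟩
    · rw [List.map_cons, List.prod_cons, hprod]
      simp [pow_succ']

end CfsgLib.ThRep.Flag

namespace CfsgLib.ThRep

open Flag in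
/-- The order of the image is divisible by `3 ^ 10`. -/
theorem dvd_three : 3 ^ 10 ∣ Nat.card rep.range := by
  haveI : Fact (Nat.Prime 3) := ⟨by norm_num⟩
  haveI : Finite pSub := inferInstance
  obtain ⟨LL, hLL, hprod⟩ := exists_levels levs [] ⊤ levs_covered (fun e he => he) fun g _ => trivial
  have h := le_card_of_levels act act_one act_mul LL ⊤ hLL
  rw [hprod, show levs.length = 10 from rfl, Subgroup.card_top] at h
  obtain ⟨n, hn⟩ := IsPGroup.iff_card.1 isPGroup_pSub
  rw [hn] at h
  have h10 : 10 ≤ n := (Nat.pow_le_pow_iff_right (by norm_num)).1 h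
  refine (pow_dvd_pow 3 h10).trans ?_
  rw [← hn]
  exact Subgroup.card_dvd_of_le pSub_le

end CfsgLib.ThRep
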