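import Cfsg.Agent.ThompsonRep.Flag.Basic
import Cfsg.Agent.ThompsonRep.Flag.Data0
import Cfsg.Agent.ThompsonRep.Flag.Data1
import Cfsg.Agent.ThompsonRep.Flag.Data2
import Cfsg.Agent.ThompsonRep.Flag.DataVec

/-!
The checker for the images of the vectors.
-/

set_option autoImplicit false
set_option maxRecDepth 100000

namespace CfsgLib.ThRep.Flag

open CfsgLib.LyG2 CfsgLib.CosetEnum

/-- The three generators. -/
def gens : List (List ℕ) := [def38, def39, def37]

/-- The rows of a matrix, spread out and handed on. -/
def withRows : List ℕ → List ℕ → (List ℕ → Bool) → Bool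
  | [], A, k => k A
  | r :: L, A, k => force (expRow r) fun x => withRows L (A ++ [x]) k

theorem withRows_eq : ∀ (L A : List ℕ) (k : List ℕ → Bool), withRows L A k = k (A ++ L.map expRow)
  | [], A, k => by simp [withRows]
  | r :: L, A, k => by simp [withRows, force_eq, withRows_eq L]

/-- The spread rows are the slices of the packed matrix, whose entries are small. -/
def rowsLink (L : List ℕ) : Bool :=
  force (expand 248 L) fun X => Nat.beq L.length 248 && goodX 248 X &&
    (List.range 248).all fun i => Nat.beq (slice 248 X i) (expRow (L.getD i 0))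

theorem rows_of_link {L : List ℕ} (h : rowsLink L = true) :
    L.map expRow = (List.range 248).map (slice 248 (expand 248 L)) ∧
      ∀ s < 248 * 248, dig (expand 248 L) s < 8 := by
  simp only [rowsLink, force_eq, Bool.and_eq_true, List.all_eq_true, List.mem_range] at h
  obtain ⟨⟨hl, hg⟩, hs⟩ := h
  have hl' := Nat.eq_of_beq_eq_true hl
  refine ⟨List.ext_getElem (by simp [hl']) fun i hi hi' => ?_, dig_of_goodX hg⟩
  have hi2 : i < L.length := by simpa using hi
  rw [List.getElem_map, List.getElem_map, List.getElem_range,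
    Nat.eq_of_beq_eq_true (hs i (hl' ▸ hi2)), List.getD_eq_getElem _ _ hi2]

/-- The walk of a row along a word. -/
def walkK (Rs : List (List ℕ)) : List ℕ → ℕ → (ℕ → Bool) → Bool
  | [], v, k => k v
  | c :: w, v, k => vstep (Rs.getD c []) v fun u => walkK Rs w u k

/-- A vector of the table. -/
def vecAt (i : ℕ) : ℕ := expRow (vecs.getD i 0)

/-- The listed images are right. -/
def checkActs (acts : List (ℕ × List ℕ × ℕ)) : Bool :=
  withRows def38 [] fun A => withRows def39 [] fun B => withRows def37 [] fun C =>
    acts.all fun t => (t.2.1.all fun c => Nat.blt c 3) && force (vecAt t.1) fun v => rowOK v &&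
      walkK [A, B, C] t.2.1 v fun u => Nat.beq u (vecAt t.2.2)

/-- Two rows differ in some entry. -/
def neqR (a b : ℕ) : Bool :=
  force a fun a => force b fun b =>
    (List.range 248).any fun s => !(Nat.beq (dig a s % 3) (dig b s % 3))

theorem neqR_sound {a b : ℕ} (h : neqR a b = true) : toV a ≠ toV b := by
  simp only [neqR, force_eq, List.any_eq_true, List.mem_range, Bool.not_eq_true'] at h
  obtain ⟨s, hs, hne⟩ := h
  intro e
  have := (ZMod.natCast_eq_natCast_iff' _ _ _).1 (congrFun e ⟨s, hs⟩)
  rw [this, Nat.beq_refl] at hne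
  exact Bool.noConfusion hne

theorem walkK_sound {Rs : List (List ℕ)} {Xs : List ℕ} (hR : Rs = Xs.map fun X => (List.range 248).map (slice 248 X))
    (hX : ∀ X ∈ Xs, ∀ s < 248 * 248, dig X s < 8) :
    ∀ (w : List ℕ), (∀ c ∈ w, c < Xs.length) → ∀ (v : ℕ), (∀ s < 248, dig v s < 8) → ∀ k : ℕ → Bool,
      walkK Rs w v k = true →
      ∃ u, toV u = Matrix.vecMul (toV v) (w.map fun c => toT 248 (Xs.getD c 0)).prod ∧ k u = true := by
  intro w
  induction w with
  | nil => exact fun _ v _ k h => ⟨v, by simp, h⟩
  | cons c w ih =>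
    intro hw v hv k h
    have hc := hw c List.mem_cons_self
    rw [walkK, hR, List.getD_eq_getElem _ _ (by simpa using hc), List.getElem_map] at h
    obtain ⟨x, hx, hx', hk⟩ := vstep_sound (hX _ (List.getElem_mem hc)) hv h
    rw [← hR] at hk
    obtain ⟨u, hu, hu'⟩ := ih (fun y hy => hw y (List.mem_cons_of_mem c hy)) x hx' k hk
    refine ⟨u, ?_, hu'⟩
    rw [hu, hx, Matrix.vecMul_vecMul, List.map_cons, List.prod_cons, List.getD_eq_getElem _ _ hc]

theorem checkActs_sound {acts : List (ℕ × List ℕ × ℕ)} (h : checkActs acts = true)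
    (hl : ∀ L ∈ gens, rowsLink L = true) :
    ∀ t ∈ acts, (∀ c ∈ t.2.1, c < 3) ∧
      Matrix.vecMul (toV (vecAt t.1)) (t.2.1.map fun c => matR (gens.getD c [])).prod =
        toV (vecAt t.2.2) := by
  intro t ht
  simp only [checkActs, withRows_eq, List.nil_append, List.all_eq_true, Bool.and_eq_true,
    Nat.blt_eq, force_eq] at h
  obtain ⟨hw, hv, hk⟩ := h t ht
  refine ⟨hw, ?_⟩
  obtain ⟨u, hu, hu'⟩ := walkK_sound (Xs := gens.map (expand 248))
    (Rs := [List.map expRow def38, List.map expRow def39, List.map expRow def37])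
    (by
      simp only [gens, List.map_cons, List.map_nil]
      rw [(rows_of_link (hl _ (by simp [gens]))).1, (rows_of_link (hl _ (by simp [gens]))).1,
        (rows_of_link (hl _ (by simp [gens]))).1])
    (fun X hX => by
      obtain ⟨L, hL, rfl⟩ := List.mem_map.1 hX
      exact (rows_of_link (hl L hL)).2)
    t.2.1 (fun c hc => by have := hw c hc; simpa [gens] using this) _ (dig_of_rowOK hv) _ hk
  rw [← Nat.eq_of_beq_eq_true hu', hu]
  refine congrArg (Matrix.vecMul _) (congrArg List.prod (List.map_congr_left fun c hc => ?_))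
  have hc3 : c < gens.length := by have := hw c hc; simpa [gens] using this
  rw [matR, List.getD_eq_getElem _ _ hc3, List.getD_eq_getElem _ _ (by simpa using hc3), List.getElem_map]

end CfsgLib.ThRep.Flag
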