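import Cfsg.Agent.ThompsonRep.Rep
import Cfsg.Agent.LyLower.Program
import Mathlib.Algebra.CharP.Lemmas
import Mathlib.GroupTheory.PGroup

/-!
Checked products, unitriangular matrices and vectors for a certificate of a subgroup of three-power
order in the representation of degree 248.
-/

set_option autoImplicit false
set_option maxRecDepth 100000

namespace CfsgLib.ThRep.Flag

open Matrix CfsgLib.LyG2 CfsgLib.CosetEnum Finset

attribute [local irreducible] tab mat genGL rep

/-- The matrix stored by rows. -/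
def matR (L : List ℕ) : Matrix (Fin 248) (Fin 248) (ZMod 3) := toT 248 (expand 248 L)

/-- A stored matrix lies in the image. -/
def InR (L : List ℕ) : Prop := ∃ g ∈ rep.range, g.val = matR L

theorem chk3_target {N : ℕ} (hN : N ≤ 300) (lo9 : ℕ) (tabs : ℕ → ℕ) (tgt : ℕ) :
    ∀ (w : List ℕ), (∀ x ∈ w, ∀ s < N * N, dig (tabs x) s < 8) → ∀ X, (∀ s < N * N, dig X s < 8) →
      chk3 N (masks N).hi3 (masks N).hi9 lo9 (colMask N) tgt tabs w X = true →
      (w.reverse.map fun x => toT N (tabs x)).prod * toT N X = toT N tgt := by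
  intro w
  induction w with
  | nil =>
    intro _ X _ h
    rw [Nat.eq_of_beq_eq_true h, List.reverse_nil, List.map_nil, List.prod_nil, one_mul]
  | cons x w ih =>
    intro hw X hX h
    simp only [chk3, force_eq, Bool.and_eq_true] at h
    obtain ⟨h1, h2, h3, h4⟩ := h
    obtain ⟨hmul, hc⟩ := toT_mul_toT hN (masks N) (hw x List.mem_cons_self) hX
      (Nat.sub_add_cancel (Nat.le_of_ble_eq_true h1)) (Nat.eq_of_beq_eq_true h2)
      (Nat.eq_of_beq_eq_true h3)
    rw [List.reverse_cons, List.map_append, List.prod_append, List.map_cons, List.map_nil,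
      List.prod_cons, List.prod_nil, mul_one, mul_assoc, hmul]
    exact ih (fun y hy => hw y (List.mem_cons_of_mem x hy)) _ hc
      (by simp only [chk3, force_eq]; exact h4)

/-- A word in stored matrices has the stored value. -/
def checkDef (Ls : List (List ℕ)) (w : List ℕ) (L : List ℕ) : Bool :=
  withTab Ls [] fun T =>
    (w.all fun x => Nat.blt x Ls.length && goodX 248 (T.getD x 0)) &&
      force (expand 248 L) fun tgt => force (masks 248).hi3 fun h3 => force (masks 248).hi9 fun h9 =>
        force (Nat.mul 511 (repOne (Nat.mul 248 248))) fun l9 => force (colMask 248) fun cm =>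
          force (oneX 248) fun o => chk3 248 h3 h9 l9 cm tgt (fun x => T.getD x 0) w.reverse o

theorem checkDef_sound {Ls : List (List ℕ)} {w L : List ℕ} (h : checkDef Ls w L = true) :
    (∀ x ∈ w, x < Ls.length) ∧ (w.map fun x => matR (Ls.getD x [])).prod = matR L := by
  rw [checkDef, withTab_eq, List.nil_append, Bool.and_eq_true] at h
  simp only [force_eq, List.all_eq_true, Bool.and_eq_true, Nat.blt_eq] at h
  obtain ⟨hw, hc⟩ := h
  refine ⟨fun x hx => (hw x hx).1, ?_⟩
  have e := chk3_target (N := 248) (by norm_num) _ _ _ w.reverse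
    (fun x hx => dig_of_goodX (hw x (List.mem_reverse.1 hx)).2) _ (dig_oneX_lt oneOk_ok) hc
  rw [List.reverse_reverse, toT_oneX oneOk_ok, mul_one] at e
  rw [matR, ← e]
  refine congrArg List.prod (List.map_congr_left fun x hx => ?_)
  have hxl := (hw x hx).1
  refine congrArg (toT 248) ?_
  rw [List.getD_eq_getElem Ls [] hxl,
    List.getD_eq_getElem (Ls.map (expand 248)) 0 (by simpa using hxl), List.getElem_map]

theorem prod_mem_range (f : ℕ → Matrix (Fin 248) (Fin 248) (ZMod 3)) :
    ∀ w : List ℕ, (∀ x ∈ w, ∃ g ∈ rep.range, g.val = f x) →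
      ∃ g ∈ rep.range, g.val = (w.map f).prod
  | [], _ => ⟨1, one_mem _, by simp⟩
  | x :: w, h => by
    obtain ⟨a, ha, ea⟩ := h x List.mem_cons_self
    obtain ⟨b, hb, eb⟩ := prod_mem_range f w fun y hy => h y (List.mem_cons_of_mem x hy)
    exact ⟨a * b, mul_mem ha hb, by rw [Units.val_mul, ea, eb, List.map_cons, List.prod_cons]⟩

/-- A checked word in members of the image lies in the image. -/
theorem inR_of_def {Ls : List (List ℕ)} {w L : List ℕ} (h : checkDef Ls w L = true)
    (hL : ∀ A ∈ Ls, InR A) : InR L := by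
  obtain ⟨hw, e⟩ := checkDef_sound h
  rw [InR, ← e]
  exact prod_mem_range (fun x => matR (Ls.getD x [])) w fun x hx =>
    hL _ (by rw [List.getD_eq_getElem _ _ (hw x hx)]; exact List.getElem_mem _)

theorem mat_matR {i : ℕ} (hi : i < allRows.length) : mat i = matR (allRows.getD i []) := by
  rw [mat_eq, matR, tab, List.getD_eq_getElem _ _ hi, List.getD_eq_getElem _ _ (by simpa using hi),
    List.getElem_map]

theorem allRows_len : allRows.length = 11 := rfl

theorem inR_letter {i : ℕ} (hi : i < 11) : InR (allRows.getD i []) := by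
  rw [InR, ← mat_matR (allRows_len.symm ▸ hi)]
  have h1 : ∀ g : Cfsg.Spor.Th.Gen, genGL g ∈ rep.range := fun g => ⟨_, rep_of g⟩
  interval_cases i
  · exact ⟨_, h1 .a, genGL_val _⟩
  · exact ⟨_, h1 .b, genGL_val _⟩
  · exact ⟨_, h1 .c, genGL_val _⟩
  · exact ⟨_, h1 .d, genGL_val _⟩
  · exact ⟨_, h1 .e, genGL_val _⟩
  · exact ⟨_, h1 .s, genGL_val _⟩
  · exact ⟨_, Subgroup.inv_mem _ (h1 .s), genGL_inv_val _⟩
  · exact ⟨_, h1 .t, genGL_val _⟩
  · exact ⟨_, Subgroup.inv_mem _ (h1 .t), genGL_inv_val _⟩
  · exact ⟨_, h1 .u, genGL_val _⟩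
  · exact ⟨_, Subgroup.inv_mem _ (h1 .u), genGL_inv_val _⟩

/-- The rows of the identity. -/
def oneRows : List ℕ := (List.range 248).map fun i => Nat.shiftLeft 1 (Nat.mul 2 i)

/-- The stored identity is the packed identity. -/
def oneRowsEq : Bool := Nat.beq (expand 248 oneRows) (oneX 248)

theorem matR_eq_one {L : List ℕ} {N : ℕ} (hN : N = 248)
    (h : Nat.beq (expand N L) (oneX N) = true) (ho : oneOk N = true) : toT N (expand N L) = 1 := by
  subst hN
  rw [Nat.eq_of_beq_eq_true h, toT_oneX ho]

/-- A stored matrix is lower unitriangular. -/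
def triOK (L : List ℕ) : Bool :=
  force (expand 248 L) fun X => (List.range 248).all fun i =>
    Nat.beq (Nat.shiftRight (slice 248 X i) (Nat.mul 24 i)) 1

theorem dig_one (s : ℕ) : dig 1 s = if s = 0 then 1 else 0 := by
  rw [dig_eq]
  rcases s with _ | s
  · simp
  · rw [if_neg (by omega), Nat.div_eq_of_lt (Nat.one_lt_pow (by omega) (by norm_num)), Nat.zero_mod]

theorem tri_of_ok {L : List ℕ} (h : triOK L = true) :
    ∀ i j : Fin 248, i ≤ j → matR L i j = if i = j then 1 else 0 := by
  simp only [triOK, force_eq, List.all_eq_true, List.mem_range] at h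
  intro i j hij
  have e := congrArg (fun n => dig n (j.val - i.val)) (Nat.eq_of_beq_eq_true (h i.val i.isLt))
  change dig (Nat.shiftRight _ _) _ = dig 1 _ at e
  rw [dig_shift, Nat.sub_add_cancel (Fin.le_def.1 hij), dig_slice _ _ _ _ j.isLt, dig_one] at e
  show ((dig (expand 248 L) (i.val * 248 + j.val) : ℕ) : ZMod 3) = _
  rw [e]
  by_cases hij' : i = j
  · subst hij'; simp
  · have : ¬ j.val - i.val = 0 := fun h0 => hij' (Fin.ext (by have := Fin.le_def.1 hij; omega))
    rw [if_neg this, if_neg hij', Nat.cast_zero]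

section Tri

variable {n : ℕ} {R : Type*} [CommRing R]

/-- Lower unitriangular. -/
def Tri (U : Matrix (Fin n) (Fin n) R) : Prop := ∀ i j, i ≤ j → U i j = if i = j then 1 else 0

theorem tri_one : Tri (1 : Matrix (Fin n) (Fin n) R) := fun i j _ => Matrix.one_apply

theorem tri_mul {U V : Matrix (Fin n) (Fin n) R} (hU : Tri U) (hV : Tri V) : Tri (U * V) := by
  intro i j hij
  rw [Matrix.mul_apply, Finset.sum_eq_single i]
  · rw [hU i i le_rfl, if_pos rfl, one_mul, hV i j hij]
  · intro k _ hk
    rcases le_or_gt i k with h | h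
    · rw [hU i k h, if_neg (Ne.symm hk), zero_mul]
    · rw [hV k j (le_trans h.le hij), if_neg (ne_of_lt (lt_of_lt_of_le h hij)), mul_zero]
  · simp

theorem strict_pow {N : Matrix (Fin n) (Fin n) R} (hN : ∀ i j, i ≤ j → N i j = 0) :
    ∀ (k : ℕ) (i j : Fin n), i.val < j.val + k → (N ^ k) i j = 0
  | 0, i, j, h => by
    rw [pow_zero, Matrix.one_apply, if_neg]
    rintro rfl
    omega
  | k + 1, i, j, h => by
    rw [pow_succ, Matrix.mul_apply]
    refine Finset.sum_eq_zero fun m _ => ?_
    by_cases hm : m ≤ j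
    · rw [hN m j hm, mul_zero]
    · rw [strict_pow hN k i m (by have := not_le.1 hm; rw [Fin.lt_def] at this; omega), zero_mul]

theorem tri_pow [Fact (0 < n)] [CharP R 3] {U : Matrix (Fin n) (Fin n) R} (hU : Tri U) (e : ℕ)
    (he : n ≤ 3 ^ e) : U ^ 3 ^ e = 1 := by
  haveI : Fact (Nat.Prime 3) := ⟨by norm_num⟩
  haveI : Nonempty (Fin n) := ⟨⟨0, Fact.out⟩⟩
  have h0 : (U - 1) ^ 3 ^ e = 0 := by
    ext i j
    refine strict_pow (fun a b hab => ?_) _ i j ?_
    · rw [Matrix.sub_apply, hU a b hab, Matrix.one_apply, sub_self]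
    · omega
  rw [sub_pow_char_pow_of_commute _ _ (Commute.one_right U), one_pow, sub_eq_zero] at h0
  exact h0

end Tri

/-- A packed row times stored rows, reduced, handed on. -/
def vstep (R : List ℕ) (v : ℕ) (k : ℕ → Bool) : Bool :=
  force (LyLower.dotR ((List.range 248).map (dig v)) R) fun acc =>
    force (Nat.land (Nat.shiftRight (Nat.mul acc 10923) 15) (Nat.mul 511 (repOne 248))) fun q =>
      Nat.ble (Nat.mul 3 q) acc && force (Nat.sub acc (Nat.mul 3 q)) fun c =>
        Nat.beq (Nat.land c (Nat.mul 16777208 (repOne 248))) 0 &&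
          (Nat.beq (Nat.land q (Nat.mul 16776704 (repOne 248))) 0 && k c)

/-- The vector of a packed row. -/
def toV (v : ℕ) : Fin 248 → ZMod 3 := fun j => (dig v j.val : ZMod 3)

/-- A packed row with small entries. -/
def rowOK (v : ℕ) : Bool := Nat.beq (Nat.land v (Nat.mul 16777208 (repOne 248))) 0

theorem dig_of_rowOK {v : ℕ} (h : rowOK v = true) : ∀ s < 248, dig v s < 8 := fun s hs =>
  dig_lt_of_land (m := 3) (by norm_num) (Nat.eq_of_beq_eq_true h) (dig_fill (by simp [base]) hs)

theorem vstep_sound {X v : ℕ} (hX : ∀ s < 248 * 248, dig X s < 8) (hv : ∀ s < 248, dig v s < 8)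
    {k : ℕ → Bool} (h : vstep ((List.range 248).map (slice 248 X)) v k = true) :
    ∃ c, toV c = Matrix.vecMul (toV v) (toT 248 X) ∧ (∀ s < 248, dig c s < 8) ∧ k c = true := by
  simp only [vstep, force_eq, Bool.and_eq_true] at h
  obtain ⟨h1, h2, h3, h4⟩ := h
  set f : ℕ → ℕ := fun k => ∑ j ∈ range 248, dig v j * dig X (j * 248 + k) with hf
  set acc := LyLower.dotR ((List.range 248).map (dig v)) ((List.range 248).map (slice 248 X)) with hacc0
  set q := Nat.land (Nat.shiftRight (Nat.mul acc 10923) 15) (Nat.mul 511 (repOne 248)) with hq0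
  set c := Nat.sub acc (Nat.mul 3 q) with hc0
  have hacc : acc = pack f 248 := by
    have := LyLower.dotR_eq 248 X ((List.range 248).map (dig v)) 0
    rw [List.length_map, List.length_range, ← List.range_eq_range'] at this
    rw [hacc0, this, macc_eq, List.length_map, List.length_range, pack]
    have e : ∀ u < 248, ((List.range 248).map (dig v)).getD u 0 * slice 248 X u =
        ∑ k ∈ range 248, dig v u * dig X (u * 248 + k) * base ^ k := by
      intro u hu
      rw [List.getD_eq_getElem _ _ (by simp [hu]), List.getElem_map, List.getElem_range]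
      conv_lhs => rw [← pack_dig 248 (slice 248 X u) (by rw [slice_eq]; exact Nat.mod_lt _ (by positivity))]
      rw [pack, mul_sum]
      refine sum_congr rfl fun k hk => ?_
      rw [dig_slice 248 X u k (mem_range.1 hk)]
      ring
    rw [sum_congr rfl fun u hu => by rw [zero_add, e u (mem_range.1 hu)], sum_comm]
    exact sum_congr rfl fun k _ => by rw [← sum_mul]
  have hfb : ∀ k < 248, f k < base := by
    intro k hk
    refine lt_of_le_of_lt (Finset.sum_le_card_nsmul _ _ 49 fun j hj => ?_) ?_
    · refine Nat.mul_le_mul (Nat.lt_succ_iff.1 (hv j (mem_range.1 hj)))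
        (Nat.lt_succ_iff.1 (hX _ ?_))
      have := mem_range.1 hj
      omega
    · simp only [card_range, smul_eq_mul, base]; omega
  have hclt : ∀ s < 248, dig c s < 8 := fun s hs =>
    dig_lt_of_land (m := 3) (by norm_num) (Nat.eq_of_beq_eq_true h2) (dig_fill (by simp [base]) hs)
  have hqlt : ∀ s < 248, dig q s < 512 := fun s hs =>
    dig_lt_of_land (m := 9) (by norm_num) (Nat.eq_of_beq_eq_true h3) (dig_fill (by simp [base]) hs)
  refine ⟨c, funext fun j => ?_, hclt, h4⟩
  have he : c + 3 * q = pack f 248 := hacc ▸ Nat.sub_add_cancel (Nat.le_of_ble_eq_true h1)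
  have hlt : pack f 248 < base ^ 248 := pack_lt _ _ hfb
  have hcq : pack (fun s => dig c s + 3 * dig q s) 248 = pack f 248 := by
    rw [← he]
    conv_rhs => rw [← pack_dig 248 c (by omega), ← pack_dig 248 q (by omega)]
    simp only [pack, mul_sum, ← sum_add_distrib]
    exact sum_congr rfl fun s _ => by ring
  have hd := congrArg (fun n => dig n j.val) hcq
  rw [dig_pack _ _ (fun s hs => by have := hclt s hs; have := hqlt s hs; simp only [base]; omega) _ j.isLt,
    dig_pack _ _ hfb _ j.isLt] at hd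
  have h3' := congrArg (fun n : ℕ => (n : ZMod 3)) hd
  simp only [hf, Nat.cast_add, Nat.cast_mul, show ((3 : ℕ) : ZMod 3) = 0 from rfl, zero_mul, add_zero,
    Nat.cast_sum] at h3'
  show ((dig c j.val : ℕ) : ZMod 3) = _
  rw [h3']
  simp only [Matrix.vecMul, dotProduct, toV, toT, Matrix.of_apply]
  rw [Fin.sum_univ_eq_sum_range fun i => ((dig v i : ℕ) : ZMod 3) * ((dig X (i * 248 + j.val) : ℕ) : ZMod 3)]

end CfsgLib.ThRep.Flag
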